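import Cfsg.Agent.Lib.Chev.Sub.FitP

/-! Table checks for `F*(P_J)`. -/

set_option autoImplicit false
set_option maxRecDepth 1000000

namespace Cfsg.Agent.Lib.Chev

open Cfsg Cfsg.Lie

namespace TabG2
/-- the longest words of the maximal Levi subgroups -/
def fitWords : List (List ℕ) := [[1], [0]]
theorem fitT_a : chkFitDown fd.tbl W = true := by decide +kernel
theorem fitT_b : chkFitChi fd.tbl chevG2.simple = true := by decide +kernel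
theorem fitT_c : chkFitWords fd.tbl W fitWords = true := by decide +kernel
theorem fitT : FitT good3 :=
  fitT_of_chk good3 (ws := fitWords) (tbl_eq ▸ fitT_a) (tbl_eq ▸ fitT_b) (tbl_eq ▸ fitT_c)
end TabG2

namespace TabB2
/-- the longest words of the maximal Levi subgroups -/
def fitWords : List (List ℕ) := [[1], [0]]
theorem fitT_a : chkFitDown fd.tbl W = true := by decide +kernel
theorem fitT_b : chkFitChi fd.tbl chevB2.simple = true := by decide +kernel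
theorem fitT_c : chkFitWords fd.tbl W fitWords = true := by decide +kernel
theorem fitT : FitT good3 :=
  fitT_of_chk good3 (ws := fitWords) (tbl_eq ▸ fitT_a) (tbl_eq ▸ fitT_b) (tbl_eq ▸ fitT_c)
end TabB2

namespace TabD4
/-- the longest words of the maximal Levi subgroups -/
def fitWords : List (List ℕ) := [[1, 2, 1, 3, 1, 2], [0, 2, 3], [0, 1, 0, 3, 1, 0], [0, 1, 0, 2, 1, 0]]
theorem fitT_a : chkFitDown fd.tbl W = true := by decide +kernel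
theorem fitT_b : chkFitChi fd.tbl chevD4.simple = true := by decide +kernel
theorem fitT_c : chkFitWords fd.tbl W fitWords = true := by decide +kernel
theorem fitT : FitT good3 :=
  fitT_of_chk good3 (ws := fitWords) (tbl_eq ▸ fitT_a) (tbl_eq ▸ fitT_b) (tbl_eq ▸ fitT_c)
end TabD4

namespace TabF4
/-- the longest words of the maximal Levi subgroups -/
def fitWords : List (List ℕ) := [[1, 2, 1, 2, 3, 2, 1, 2, 3], [0, 2, 3, 2], [0, 1, 0, 3], [0, 1, 0, 2, 1, 0, 2, 1, 2]]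
theorem fitT_a : chkFitDown fd.tbl W = true := by decide +kernel
theorem fitT_b : chkFitChi fd.tbl chevF4.simple = true := by decide +kernel
theorem fitT_c : chkFitWords fd.tbl W fitWords = true := by decide +kernel
theorem fitT : FitT good3 :=
  fitT_of_chk good3 (ws := fitWords) (tbl_eq ▸ fitT_a) (tbl_eq ▸ fitT_b) (tbl_eq ▸ fitT_c)
end TabF4

namespace TabE6
/-- the longest words of the maximal Levi subgroups -/
def fitWords : List (List ℕ) := [[1, 2, 3, 1, 2, 3, 4, 3, 1, 2, 3, 4, 5, 4, 3, 1, 2, 3, 4, 5], [0, 2, 0, 3, 2, 0, 4, 3, 2, 0, 5, 4, 3, 2, 0], [0, 1, 3, 1, 4, 3, 1, 5, 4, 3, 1], [0, 1, 2, 0, 4, 5, 4], [0, 1, 2, 0, 3, 1, 2, 0, 3, 2, 5], [0, 1, 2, 0, 3, 1, 2, 0, 3, 2, 4, 3, 1, 2, 0, 3, 2, 4, 3, 1]]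
theorem fitT_a : chkFitDown fd.tbl W = true := by decide +kernel
theorem fitT_b : chkFitChi fd.tbl chevE6.simple = true := by decide +kernel
theorem fitT_c : chkFitWords fd.tbl W fitWords = true := by decide +kernel
theorem fitT : FitT good3 :=
  fitT_of_chk good3 (ws := fitWords) (tbl_eq ▸ fitT_a) (tbl_eq ▸ fitT_b) (tbl_eq ▸ fitT_c)
end TabE6

namespace TabE7
/-- the longest words of the maximal Levi subgroups -/
def fitWords : List (List ℕ) := [[1, 2, 3, 1, 2, 3, 4, 3, 1, 2, 3, 4, 5, 4, 3, 1, 2, 3, 4, 5, 6, 5, 4, 3, 1, 2, 3, 4, 5, 6], [0, 2, 0, 3, 2, 0, 4, 3, 2, 0, 5, 4, 3, 2, 0, 6, 5, 4, 3, 2, 0], [0, 1, 3, 1, 4, 3, 1, 5, 4, 3, 1, 6, 5, 4, 3, 1], [0, 1, 2, 0, 4, 5, 4, 6, 5, 4], [0, 1, 2, 0, 3, 1, 2, 0, 3, 2, 5, 6, 5], [0, 1, 2, 0, 3, 1, 2, 0, 3, 2, 4, 3, 1, 2, 0, 3, 2, 4, 3, 1, 6], [0, 1, 2, 0, 3, 1, 2, 0, 3, 2, 4, 3, 1, 2, 0, 3, 2, 4, 3, 1, 5, 4, 3, 1, 2, 0, 3, 2,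 4, 3, 1, 5, 4, 3, 2, 0]]
theorem fitT_a : chkFitDown fd.tbl W = true := by decide +kernel
theorem fitT_b : chkFitChi fd.tbl chevE7.simple = true := by decide +kernel
theorem fitT_c : chkFitWords fd.tbl W fitWords = true := by decide +kernel
theorem fitT : FitT good3 :=
  fitT_of_chk good3 (ws := fitWords) (tbl_eq ▸ fitT_a) (tbl_eq ▸ fitT_b) (tbl_eq ▸ fitT_c)
end TabE7

namespace TabE8
/-- the longest words of the maximal Levi subgroups -/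
def fitWords : List (List ℕ) := [[1, 2, 3, 1, 2, 3, 4, 3, 1, 2, 3, 4, 5, 4, 3, 1, 2, 3, 4, 5, 6, 5, 4, 3, 1, 2, 3, 4, 5, 6, 7, 6, 5, 4, 3, 1, 2, 3, 4, 5, 6, 7], [0, 2, 0, 3, 2, 0, 4, 3, 2, 0, 5, 4, 3, 2, 0, 6, 5, 4, 3, 2, 0, 7, 6, 5, 4, 3, 2, 0], [0, 1, 3, 1, 4, 3, 1, 5, 4, 3, 1, 6, 5, 4, 3, 1, 7, 6, 5, 4, 3, 1], [0, 1, 2, 0, 4, 5, 4, 6, 5, 4, 7, 6, 5, 4], [0, 1, 2, 0, 3, 1, 2, 0, 3, 2, 5, 6, 5, 7, 6, 5], [0, 1, 2, 0, 3, 1, 2, 0, 3, 2, 4, 3, 1, 2, 0, 3, 2, 4, 3, 1, 6, 7, 6], [0, 1, 2, 0, 3, 1, 2, 0, 3, 2, 4, 3, 1, 2, 0, 3, 2, 4, 3, 1, 5, 4, 3, 1, 2, 0, 3, 2, 4, 3, 1, 5, 4, 3, 2, 0, 7], [0, 1, 2, 0, 3, 1, 2, 0, 3, 2, 4, 3, 1, 2, 0, 3, 2, 4, 3, 1, 5, 4, 3, 1, 2, 0, 3, 2, 4, 3, 1, 5, 4, 3, 2, 0, 6, 5, 4, 3, 1, 2, 0, 3, 2, 4, 3, 1, 5, 4, 3, 2, 0, 6, 5, 4, 3, 1, 2, 3, 4, 5, 6]]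
theorem fitT_a : chkFitDown fd.tbl W = true := by decide +kernel
theorem fitT_b : chkFitChi fd.tbl chevE8.simple = true := by decide +kernel
theorem fitT_c : chkFitWords fd.tbl W fitWords = true := by decide +kernel
theorem fitT : FitT good3 :=
  fitT_of_chk good3 (ws := fitWords) (tbl_eq ▸ fitT_a) (tbl_eq ▸ fitT_b) (tbl_eq ▸ fitT_c)
end TabE8

/-- `F*(P_J)` is a `p`-group for the seven tabulated types. -/
theorem fit_of_mem {F : Type*} [Field F] [Fintype F] (p : ℕ) [Fact p.Prime] [CharP F p] {D : ChevalleyDatum}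
    (hD : D ∈ [chevG2, chevB2, chevD4, chevF4, chevE6, chevE7, chevE8]) (J : Set ℕ)
    (hJ : ∃ i, i < D.rank ∧ i ∉ J) :
    IsPGroup p ↥(Cfsg.generalizedFittingSubgroup ↥(D.parabolicSubgroup F J)) := by
  simp only [List.mem_cons, List.not_mem_nil, or_false] at hD
  rcases hD with rfl | rfl | rfl | rfl | rfl | rfl | rfl
  · exact fit_main TabG2.good3 TabG2.fitT p J hJ
  · exact fit_main TabB2.good3 TabB2.fitT p J hJ
  · exact fit_main TabD4.good3 TabD4.fitT p J hJ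
  · exact fit_main TabF4.good3 TabF4.fitT p J hJ
  · exact fit_main TabE6.good3 TabE6.fitT p J hJ
  · exact fit_main TabE7.good3 TabE7.fitT p J hJ
  · exact fit_main TabE8.good3 TabE8.fitT p J hJ

end Cfsg.Agent.Lib.Chev
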